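import Groth.Agent.Lib.SnapLead
import Groth.Agent.QCoh.Devissage

/-!
# Degrees on one dimensional proper schemes
-/

set_option autoImplicit false
set_option linter.style.haveILetI false
set_option linter.unusedSectionVars false
set_option backward.isDefEq.respectTransparency false
set_option backward.isDefEq.respectTransparency.types false
set_option maxHeartbeats 1000000

universe u

open CategoryTheory CategoryTheory.Limits AlgebraicGeometry TopologicalSpace
open Groth.Agent.H23 Groth.Agent.H23.PicMul

noncomputable section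

namespace Groth.Agent.NefSpec

attribute [local instance] PicMul.clMonoid

variable (k : Type u) [Field k]

/-- Nonnegative degrees on the integral curves, through Euler characteristics. -/
def NefE (X : Scheme.{u}) (f : X ⟶ Spec (CommRingCat.of k)) (L : X.Modules) : Prop :=
  ∀ (Y : Scheme.{u}) (i : Y ⟶ X) [IsClosedImmersion i], IsIntegral Y → topologicalKrullDim Y = 1 →
    0 ≤ @Curv2.euler k _ Y ⟨i ≫ f⟩ ((Scheme.Modules.pullback i).obj L) -
      @Curv2.euler k _ Y ⟨i ≫ f⟩ (Coh.structureModule Y)

variable {X : Scheme.{u}} [X.Over (Spec (CommRingCat.of k))] [IsProper (X ↘ Spec (CommRingCat.of k))]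

include k in
/-- There are only finitely many curves in a noetherian one dimensional scheme. -/
theorem finite_dim_closure_eq_one (hd : topologicalKrullDim X ≤ (1 : ℕ)) :
    {ξ : X | topologicalKrullDim (closure ({ξ} : Set X)) = ((1 : ℕ) : WithBot ℕ∞)}.Finite := by
  haveI := CurveCohLib.isNoetherian_of_proper (k := k) (X := X)
  haveI : NoetherianSpace X := inferInstance
  refine Set.Finite.of_finite_image (f := fun ξ : X => closure ({ξ} : Set X))
    (NoetherianSpace.finite_irreducibleComponents.subset ?_) fun a _ b _ h => ?_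
  · rintro _ ⟨ξ, hξ, rfl⟩
    refine ⟨isIrreducible_singleton.closure, fun T hT hle => ?_⟩
    obtain ⟨η, hη⟩ := QuasiSober.sober hT.closure isClosed_closure
    have hηξ : η ⤳ ξ := hη.specializes (subset_closure (hle (subset_closure rfl)))
    have heq : η = ξ := by
      by_contra hne
      have hlt := CycLib.delta_lt (SnapLead.isDimFun k (X := X)) hηξ hne
      have h1 : topologicalKrullDim ↥(closure ({η} : Set X)) ≤ ((1 : ℕ) : WithBot ℕ∞) :=
        Topology.IsInducing.subtypeVal.topologicalKrullDim_le.trans hd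
      have hξ' : topologicalKrullDim ↥(closure ({ξ} : Set X)) = ((1 : ℕ) : WithBot ℕ∞) := hξ
      rw [SnapLead.dim_closure k] at h1 hξ'
      simp only [SnapLead.δ] at hlt
      have h2 : FibDim.rd (X ↘ Spec (CommRingCat.of k)) η ≤ 1 := by exact_mod_cast h1
      have h3 : FibDim.rd (X ↘ Spec (CommRingCat.of k)) ξ = 1 := by exact_mod_cast hξ'
      omega
    intro t ht
    show t ∈ closure ({ξ} : Set X)
    rw [← heq, hη.def]
    exact subset_closure ht
  · exact ((isGenericPoint_closure (x := a)).eq ((show closure ({b} : Set X) = closure {a} from h.symm) : IsGenericPoint b (closure {a})))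

/-- A module that is nef on the curves has nonnegative degree on a one dimensional scheme. -/
theorem euler_sub_nonneg (hd : topologicalKrullDim X ≤ (1 : ℕ)) {L : X.Modules} (hL : PicF.IsInvertible L)
    (hnef : NefE k X (X ↘ Spec (CommRingCat.of k)) L) :
    0 ≤ Curv2.euler k X L - Curv2.euler k X (Coh.structureModule X) := by
  haveI := CurveCohLib.isNoetherian_of_proper (k := k) (X := X)
  obtain ⟨Q, hQ, hQn⟩ := SnapLead.main k (r := 1) (QCoh.isCoh_structureModule' (X := X)) (d := 1)
    (Topology.IsInducing.subtypeVal.topologicalKrullDim_le.trans hd) (L := fun _ : Fin 1 => L) fun _ => hL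
  have hconst : Q = MvPolynomial.C (Q.coeff 0) := MvPolynomial.totalDegree_eq_zero_iff_eq_C.1 (Nat.le_zero.1 hQ.totalDegree_le)
  have h01 := (hQn fun _ => 1).trans ((congrArg _ hconst).trans (MvPolynomial.eval_C _))
  have h00 := (hQn fun _ => 0).trans ((congrArg _ hconst).trans (MvPolynomial.eval_C _))
  have hcl : ∀ (Y : Scheme.{u}) (M : Y.Modules) (a : ℕ),
      PicF.cl (Curv2.tensorPows (Coh.structureModule Y) 1 (fun _ : Fin 1 => M) fun _ => a) = PicF.cl M ^ a := by
    intro Y M a
    show PicF.cl (CohB1.tensorMod (Coh.structureModule Y) (CohB1.tensorPow M a)) = _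
    rw [cl_tensor, cl_tensorPow, ← PicMul.one_def, one_mul]
  have e1 : Snapper.χs k (fun _ : Fin 1 => L) (Coh.structureModule X) (fun _ => 1) = (Curv2.euler k X L : ℚ) := by
    obtain ⟨e⟩ := cl_eq_iff.1 ((hcl X L 1).trans (pow_one _))
    exact congrArg (Int.cast : ℤ → ℚ) (CurveCohLib.euler_congr (k := k) e)
  have e0 : Snapper.χs k (fun _ : Fin 1 => L) (Coh.structureModule X) (fun _ => 0) =
      (Curv2.euler k X (Coh.structureModule X) : ℚ) := by
    obtain ⟨e⟩ := cl_eq_iff.1 (((hcl X L 0).trans (pow_zero _)).trans PicMul.one_def)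
    exact congrArg (Int.cast : ℤ → ℚ) (CurveCohLib.euler_congr (k := k) e)
  simp only [e1] at h01
  simp only [e0] at h00
  suffices h : ∀ ξ : X,
      (if topologicalKrullDim (closure ({ξ} : Set X)) = ((1 : ℕ) : WithBot ℕ∞) then
        ((Module.length (X.presheaf.stalk ξ) ((Coh.structureModule X).presheaf.stalk ξ)).toNat : ℚ) *
          SnapLead.term (k := k) (fun _ : Fin 1 => L) ξ (fun _ => 0) else 0) ≤
      (if topologicalKrullDim (closure ({ξ} : Set X)) = ((1 : ℕ) : WithBot ℕ∞) then
        ((Module.length (X.presheaf.stalk ξ) ((Coh.structureModule X).presheaf.stalk ξ)).toNat : ℚ) *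
          SnapLead.term (k := k) (fun _ : Fin 1 => L) ξ (fun _ => 1) else 0) by
    have hsupp : ∀ n : Fin 1 → ℕ, (Function.support fun ξ : X =>
        (if topologicalKrullDim (closure ({ξ} : Set X)) = ((1 : ℕ) : WithBot ℕ∞) then
          ((Module.length (X.presheaf.stalk ξ) ((Coh.structureModule X).presheaf.stalk ξ)).toNat : ℚ) *
            SnapLead.term (k := k) (fun _ : Fin 1 => L) ξ n else 0)) ⊆ ↑(finite_dim_closure_eq_one k hd).toFinset :=
      fun n ξ hξ => by
        rw [Set.Finite.coe_toFinset]
        by_contra hne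
        exact hξ (if_neg hne)
    rw [finsum_eq_sum_of_support_subset _ (hsupp _)] at h01 h00
    have hsum := Finset.sum_le_sum (s := (finite_dim_closure_eq_one k hd).toFinset) fun ξ _ => h ξ
    rw [sub_nonneg]
    have : (Curv2.euler k X (Coh.structureModule X) : ℚ) ≤ (Curv2.euler k X L : ℚ) := by linarith
    exact_mod_cast this
  intro ξ
  by_cases hξ : topologicalKrullDim (closure ({ξ} : Set X)) = ((1 : ℕ) : WithBot ℕ∞)
  swap
  · rw [if_neg hξ, if_neg hξ]
  rw [if_pos hξ, if_pos hξ]
  refine mul_le_mul_of_nonneg_left ?_ (Nat.cast_nonneg _)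
  let Z := Scheme.IdealSheafData.vanishingIdeal (⟨closure ({ξ} : Set X), isClosed_closure⟩ : Closeds X)
  let i := Z.subschemeι
  letI : Z.subscheme.Over (Spec (CommRingCat.of k)) := ⟨i ≫ (X ↘ Spec (CommRingCat.of k))⟩
  haveI : IsIntegral Z.subscheme := QCoh.isIntegral_closure_point ξ
  have hZ : topologicalKrullDim Z.subscheme = 1 := by
    have hr : Set.range i = closure ({ξ} : Set X) := H23.RedSub.range_vanishingIdeal _
    rw [i.isClosedEmbedding.isEmbedding.toHomeomorph.isHomeomorph.topologicalKrullDim_eq, hr, hξ, Nat.cast_one]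
  have h := hnef Z.subscheme i inferInstance hZ
  let M := (Scheme.Modules.pullback i).obj L
  obtain ⟨a⟩ := cl_eq_iff.1 ((hcl Z.subscheme M 1).trans (pow_one _))
  obtain ⟨b⟩ := cl_eq_iff.1 (((hcl Z.subscheme M 0).trans (pow_zero _)).trans PicMul.one_def)
  show ((Curv2.euler k Z.subscheme (Curv2.tensorPows (Coh.structureModule Z.subscheme) 1 (fun _ : Fin 1 => M) fun _ => 0) : ℤ) : ℚ) ≤
    ((Curv2.euler k Z.subscheme (Curv2.tensorPows (Coh.structureModule Z.subscheme) 1 (fun _ : Fin 1 => M) fun _ => 1) : ℤ) : ℚ)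
  rw [CurveCohLib.euler_congr (k := k) a, CurveCohLib.euler_congr (k := k) b]
  exact_mod_cast sub_nonneg.1 h

end Groth.Agent.NefSpec
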