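import Groth.Agent.DivEuler.Fibre
import Groth.Agent.NefSpec.CurveDeg
import Groth.Agent.S4932
import Groth.Agent.DescLib.SubtrVal
import Groth.Agent.CurveRes.Blow
import Groth.Agent.ModDesc.Closure
import Groth.Agent.H23.Seesaw
import Groth.Agent.AssLib.FlatFibre

/-!
# Specialization of curves in a proper family over a discrete valuation ring
-/

set_option autoImplicit false
set_option linter.style.haveILetI false
set_option linter.unusedSectionVars false
set_option backward.isDefEq.respectTransparency false
set_option backward.isDefEq.respectTransparency.types false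
set_option maxHeartbeats 1000000

universe u

open CategoryTheory CategoryTheory.Limits AlgebraicGeometry TopologicalSpace

noncomputable section

namespace Groth.Agent.NefSpec

variable {R : Type u} [CommRing R] [IsDomain R] [IsDiscreteValuationRing R]

/-- The generic point of a discrete valuation ring is an open point. -/
theorem isOpenImmersion_etaPt :
    IsOpenImmersion ((Spec (CommRingCat.of R)).fromSpecResidueField (DescLib.etaPt R)) := by
  obtain ⟨π, hπ⟩ := IsDiscreteValuationRing.exists_irreducible R
  set η := DescLib.etaPt R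
  let a : Γ(Spec (CommRingCat.of R), ⊤) := (Scheme.ΓSpecIso (CommRingCat.of R)).inv π
  have hη' : ((Spec (CommRingCat.of R)).basicOpen a : Set ↥(Spec (CommRingCat.of R))) = {η} := by
    rw [basicOpen_eq_of_affine]
    ext P
    refine ⟨fun hP => PrimeSpectrum.ext ?_, fun hP => ?_⟩
    · show P.asIdeal = ⊥
      by_contra hne
      haveI : P.asIdeal.IsMaximal := IsPrime.to_maximal_ideal hne
      apply (hP : π ∉ P.asIdeal)
      rw [IsLocalRing.eq_maximalIdeal ‹P.asIdeal.IsMaximal›]
      exact (IsDiscreteValuationRing.irreducible_iff_uniformizer π).1 hπ ▸ Ideal.mem_span_singleton_self π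
    · obtain rfl : P = η := hP
      show π ∉ (⊥ : Ideal R)
      rw [Ideal.mem_bot]
      exact hπ.ne_zero
  haveI : Flat ((Spec (CommRingCat.of R)).fromSpecResidueField η) := by
    have : η = genericPoint ↥(Spec (CommRingCat.of R)) := by
      apply PrimeSpectrum.ext
      rw [genericPoint_eq_bot_of_affine]
      rfl
    rw [this]
    exact AssLib.flat_fromSpecResidueField_genericPoint _
  let q := (Spec (CommRingCat.of R)).fromSpecResidueField η
  haveI : ∀ z, IsIso (q.stalkMap z) := fun z =>
    (ConcreteCategory.isIso_iff_bijective (q.stalkMap z)).2 (AssLib.bijective_stalkMap q z)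
  refine IsOpenImmersion.of_isIso_stalkMap q ⟨q.isEmbedding, ?_⟩
  rw [Scheme.range_fromSpecResidueField, ← hη']
  exact ((Spec (CommRingCat.of R)).basicOpen a).isOpen

variable {X : Scheme.{u}} (p : X ⟶ Spec (CommRingCat.of R)) [IsProper p]

/-- A curve in the generic fibre is the generic fibre of a flat family of curves. -/
theorem exists_closure {W : Scheme.{u}} (g : W ⟶ X) [IsOpenImmersion g] [QuasiCompact g]
    {Y : Scheme.{u}} [IsIntegral Y] (ι : Y ⟶ W) [IsClosedImmersion ι]
    (hgen : ∀ w : W, p (g w) = DescLib.etaPt R) :
    ∃ (Z : Scheme.{u}) (j : Z ⟶ X) (t : Y ⟶ Z), IsClosedImmersion j ∧ IsIntegral Z ∧ Flat (j ≫ p) ∧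
      IsDominant (j ≫ p) ∧ IsPullback t ι j g := by
  let f := ι ≫ g
  haveI : QuasiCompact f := inferInstance
  haveI : IsIntegral f.image := CurveRes.isIntegral_image f
  let Zj := pullback f.imageι g
  let t : Y ⟶ Zj := pullback.lift f.toImage ι f.toImage_imageι
  have ht1 : t ≫ pullback.fst f.imageι g = f.toImage := pullback.lift_fst _ _ _
  have ht2 : t ≫ pullback.snd f.imageι g = ι := pullback.lift_snd _ _ _
  haveI : IsClosedImmersion (t ≫ pullback.snd f.imageι g) := by rw [ht2]; infer_instance
  haveI : IsClosedImmersion t := IsClosedImmersion.of_comp t (pullback.snd f.imageι g)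
  haveI : IsOpenImmersion (pullback.fst f.imageι g) := inferInstance
  have hsq : IsPullback t (𝟙 Y) (pullback.fst f.imageι g) f.toImage :=
    ⟨⟨by rw [Category.id_comp, ht1]⟩, ⟨PullbackCone.IsLimit.mk _ (fun s => s.snd)
      (fun s => by
        rw [← cancel_mono (pullback.fst f.imageι g), Category.assoc, ht1]
        exact s.condition.symm)
      (fun s => Category.comp_id _)
      (fun s m _ h => by rw [← h, Category.comp_id])⟩⟩
  have hker : t.ker = ⊥ := Scheme.IdealSheafData.ext (funext fun V => by
    rw [Scheme.ker_ideal_of_isPullback_of_isOpenImmersion f.toImage t (𝟙 Y) (pullback.fst f.imageι g) hsq,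
      ModDesc.ker_toImage f, Scheme.IdealSheafData.ideal_bot, Scheme.IdealSheafData.ideal_bot,
      Pi.bot_apply, Pi.bot_apply]
    exact Ideal.comap_bot_of_injective _
      (ConcreteCategory.bijective_of_isIso ((pullback.fst f.imageι g).appIso V.1).inv).1)
  haveI : IsIso t := IsClosedImmersion.isIso_iff_ker_eq_bot.mpr hker
  have hpb : IsPullback f.toImage ι f.imageι g :=
    IsPullback.of_iso_pullback ⟨f.toImage_imageι⟩ (asIso t) ht1 ht2
  have hgp : (f.imageι ≫ p) (genericPoint f.image) = DescLib.etaPt R := by
    rw [← CurveRes.map_genericPoint f.toImage, ← Scheme.Hom.comp_apply, ← Category.assoc, f.toImage_imageι]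
    exact hgen (ι (genericPoint Y))
  refine ⟨f.image, f.imageι, f.toImage, inferInstance, inferInstance,
    DescLib.flat_of_dominant_integral _ hgp, ?_, hpb⟩
  refine IsDominant.mk fun x => ?_
  refine closure_mono (s := {DescLib.etaPt R}) (t := Set.range ⇑(f.imageι ≫ p)) (Set.singleton_subset_iff.2 ⟨genericPoint f.image, hgp⟩) ?_
  exact specializes_iff_mem_closure.1 (DescLib.eta_specializes x)

variable [Flat p]

/-- Nefness passes from the closed fibre to the generic fibre. -/
theorem nef_generic (L : X.Modules) (hL : PicF.IsInvertible L)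
    (h0 : NefE ((Spec (CommRingCat.of R)).residueField (IsLocalRing.closedPoint R))
      (p.fiber (IsLocalRing.closedPoint R)) (p.fiberToSpecResidueField (IsLocalRing.closedPoint R))
      ((Scheme.Modules.pullback (p.fiberι (IsLocalRing.closedPoint R))).obj L)) :
    NefE ((Spec (CommRingCat.of R)).residueField (DescLib.etaPt R)) (p.fiber (DescLib.etaPt R))
      (p.fiberToSpecResidueField (DescLib.etaPt R))
      ((Scheme.Modules.pullback (p.fiberι (DescLib.etaPt R))).obj L) := by
  intro Y ι _ hY hdim
  haveI := hY
  let S := Spec (CommRingCat.of R)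
  let η : S := DescLib.etaPt R
  let s : S := IsLocalRing.closedPoint R
  haveI : IsOpenImmersion (S.fromSpecResidueField η) := isOpenImmersion_etaPt
  let g := p.fiberι η
  haveI : IsOpenImmersion g := MorphismProperty.pullback_fst _ _ inferInstance
  haveI : QuasiCompact g := MorphismProperty.pullback_fst _ _ inferInstance
  have hgen : ∀ w : ↥(p.fiber η), p (g w) = η := fun w =>
    (p.range_fiberι η).subset ⟨w, rfl⟩
  obtain ⟨Z, j, t, _, _, hfl, hdom, hpb⟩ := exists_closure p g ι hgen
  let q := j ≫ p
  haveI : Flat q := hfl
  haveI : IsDominant q := hdom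
  haveI : IsProper q := inferInstance
  let K := S.residueField η
  letI : Y.Over (Spec (CommRingCat.of K)) := ⟨ι ≫ p.fiberToSpecResidueField η⟩
  have hY : IsPullback t (Y ↘ Spec (CommRingCat.of K)) q (S.fromSpecResidueField η) :=
    hpb.paste_vert (IsPullback.of_hasPullback p (S.fromSpecResidueField η))
  -- the closed fibre of the family
  let κ := S.residueField s
  letI : (q.fiber s).Over (Spec (CommRingCat.of κ)) := ⟨q.fiberToSpecResidueField s⟩
  haveI : IsProper (q.fiber s ↘ Spec (CommRingCat.of κ)) :=
    MorphismProperty.pullback_snd q (S.fromSpecResidueField s) inferInstance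
  let M := (Scheme.Modules.pullback j).obj L
  have hM : PicF.IsInvertible M := PicClLib.isInvertible_pullback j hL
  haveI : IsNoetherianRing (CommRingCat.of R) := inferInstanceAs (IsNoetherianRing R)
  haveI : LocallyOfFinitePresentation q := inferInstance
  haveI : IsLocallyNoetherian Z := LocallyOfFiniteType.isLocallyNoetherian q
  have hconst : ∀ F : Z.Modules, PicF.IsInvertible F →
      Curv2.euler K Y ((Scheme.Modules.pullback t).obj F) =
        Curv2.euler κ (q.fiber s) ((Scheme.Modules.pullback (q.fiberι s)).obj F) := by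
    intro F hF
    have hFc : Coh.IsCoh F := AmpleVan.isCoh_invertible hF
    have hlc := S1026.result q F (QCoh.isCoh_iff_isFP.1 hFc) (H23.Seesaw.isFlatOver_of_isInvertible q hF)
    rw [DivEuler.euler_eq_eulerChar q K (S.fromSpecResidueField η) t hY F hFc.1,
      DivEuler.euler_eq_eulerChar q κ (S.fromSpecResidueField s) (q.fiberι s)
        (IsPullback.of_hasPullback q (S.fromSpecResidueField s)) F hFc.1]
    exact hlc.apply_eq_of_isPreconnected (s := Set.univ) isPreconnected_univ trivial trivial
  -- its dimension
  have hd : topologicalKrullDim ↥(q.fiber s) ≤ ((1 : ℕ) : WithBot ℕ∞) := by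
    rcases isEmpty_or_nonempty ↥(q.fiber s) with he | hne
    · haveI : IsEmpty (IrreducibleCloseds ↥(q.fiber s)) := ⟨fun C => C.isIrreducible.nonempty.elim fun x _ => he.elim x⟩
      rw [show topologicalKrullDim ↥(q.fiber s) = ⊥ from Order.krullDim_eq_bot]
      exact bot_le
    · rw [S4932.result q hne]
      have hη : genericPoint (Spec (CommRingCat.of R)) = η := by
        apply PrimeSpectrum.ext
        rw [genericPoint_eq_bot_of_affine]
        rfl
      rw [hη, Nat.cast_one, ← hdim]
      haveI : IsOpenImmersion t := MorphismProperty.of_isPullback hpb.flip inferInstance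
      have hr : Set.range t = q ⁻¹' {η} := by
        have hs : Function.Surjective hY.isoPullback.hom := hY.isoPullback.hom.surjective
        rw [← hY.isoPullback_hom_fst, Scheme.Hom.comp_base, TopCat.coe_comp, hs.range_comp,
          Scheme.Pullback.range_fst]
        exact congrArg _ (Scheme.range_fromSpecResidueField η)
      rw [(q.fiberHomeo η).isHomeomorph.topologicalKrullDim_eq,
        t.isOpenEmbedding.isEmbedding.toHomeomorph.isHomeomorph.topologicalKrullDim_eq, hr]
  -- nefness on it
  let u : q.fiber s ⟶ p.fiber s := pullback.lift (q.fiberι s ≫ j) (q.fiberToSpecResidueField s)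
    ((Category.assoc _ _ _).trans pullback.condition)
  have hu : u ≫ p.fiberι s = q.fiberι s ≫ j := pullback.lift_fst _ _ _
  have hus : u ≫ p.fiberToSpecResidueField s = q.fiberToSpecResidueField s := pullback.lift_snd _ _ _
  have hub : IsPullback u (q.fiberι s) (p.fiberι s) j := by
    refine IsPullback.flip (IsPullback.of_bot ?_ hu.symm (IsPullback.of_hasPullback p (S.fromSpecResidueField s)))
    erw [hus]
    exact IsPullback.of_hasPullback q (S.fromSpecResidueField s)
  haveI : IsClosedImmersion u := MorphismProperty.of_isPullback hub.flip inferInstance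
  let N := (Scheme.Modules.pullback (q.fiberι s)).obj M
  have hN : PicF.IsInvertible N := PicClLib.isInvertible_pullback _ hM
  have key := euler_sub_nonneg κ hd hN (fun Y0 i _ hY0 hd0 => by
    have h := h0 Y0 (i ≫ u) hY0 hd0
    letI : Y0.Over (Spec (CommRingCat.of κ)) := ⟨i ≫ q.fiberToSpecResidueField s⟩
    rw [Category.assoc, show u ≫ p.fiberToSpecResidueField (IsLocalRing.closedPoint R) = _ from hus] at h
    rw [show Curv2.euler κ Y0 ((Scheme.Modules.pullback i).obj N) = Curv2.euler κ Y0
      ((Scheme.Modules.pullback (i ≫ u)).obj ((Scheme.Modules.pullback (p.fiberι s)).obj L)) from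
      CurveCohLib.euler_congr (k := κ)
        ((Scheme.Modules.pullback i).mapIso ((Scheme.Modules.pullbackComp (q.fiberι s) j).app L ≪≫
          (Scheme.Modules.pullbackCongr hu.symm).app L ≪≫
          ((Scheme.Modules.pullbackComp u (p.fiberι s)).app L).symm) ≪≫
          (Scheme.Modules.pullbackComp i u).app _)]
    exact h)
  rw [← hconst M hM] at key
  have hO := hconst (Coh.structureModule Z) InvX.isInvertible_structureModule
  rw [CurveCohLib.euler_congr (k := κ) (CurveBC.unitIso (q.fiberι s)),
    CurveCohLib.euler_congr (k := K) (CurveBC.unitIso t)] at hO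
  rw [← hO] at key
  rw [show Curv2.euler K Y ((Scheme.Modules.pullback ι).obj ((Scheme.Modules.pullback g).obj L)) =
    Curv2.euler K Y ((Scheme.Modules.pullback t).obj M) from CurveCohLib.euler_congr (k := K)
      ((Scheme.Modules.pullbackComp ι g).app L ≪≫ (Scheme.Modules.pullbackCongr hpb.w.symm).app L ≪≫
        ((Scheme.Modules.pullbackComp t j).app L).symm)]
  exact key

end Groth.Agent.NefSpec
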